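import Cfsg.Agent.H53.SylowThompson

/-! An elementary abelian group permuting 22 commuting involutions, fixing none or six of them apart from
its kernel, is not larger than the group they generate unless it lies in it. -/

set_option autoImplicit false
set_option linter.unusedSectionVars false

open Subgroup

namespace Cfsg.Agent.H98.U62

variable {G : Type*} [Group G] [Finite G]

theorem central_of_conj {b x : G} (h : ∀ k, Commute (b * x * b⁻¹) k) : b * x * b⁻¹ = x :=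
  by
    have e := h b
    calc b * x * b⁻¹ = b⁻¹ * ((b * x * b⁻¹) * b) := by rw [e.eq]; group
      _ = x := by group

theorem commute_of_conj_central {b x : G} (_ : b * b = 1) (h : ∀ k, Commute (b * x * b⁻¹) k) :
    Commute b x := mul_inv_eq_iff_eq_mul.1 (central_of_conj h)

theorem commute_of_conj {b c p : G} (_ : Commute c (c * p * c⁻¹) ∨ True) (_ : Commute b c)
    (h : ∀ k, Commute (c * p * c⁻¹) k) : Commute b p := by
  have e : c * p * c⁻¹ = p := central_of_conj h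
  rw [e] at h
  exact (h b).symm

theorem commute_of_conj₂ {b c p : G} (hb : b * b = 1) (_ : Commute b c)
    (h : ∀ k, Commute (c * (b * p * b⁻¹) * c⁻¹) k) : Commute b p := by
  have e : c * (b * p * b⁻¹) * c⁻¹ = b * p * b⁻¹ := central_of_conj h
  rw [e] at h
  exact commute_of_conj_central hb h

/-- An elementary abelian subgroup of at least the order of the group generated by the set lies in it. -/
theorem max_le {Ω : Set G} (hcomm : ∀ x ∈ Ω, ∀ y ∈ Ω, Commute x y) (hcard : Ω.ncard = 22)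
    (hΩ2 : ∀ x ∈ Ω, x * x = 1) (B : Subgroup G) (hB2 : ∀ x ∈ B, x * x = 1)
    (hBc : ∀ x ∈ B, ∀ y ∈ B, Commute x y) (hΩmove : ∀ b ∈ B, ∀ x ∈ Ω, b * x * b⁻¹ ∈ Ω)
    (hdich : ∀ b ∈ B, ((∀ x ∈ Ω, Commute b x) ∧ b ∈ closure Ω) ∨
      {x : G | x ∈ Ω ∧ ¬ Commute b x}.ncard = 16)
    (hpair : ∀ b ∈ B, ∀ p ∈ Ω, ∀ u ∈ Ω, ∀ v ∈ Ω, ¬ Commute b p → (¬ ∀ k, Commute u k) → (¬ ∀ k, Commute v k) →
      u * v = p * (b * p * b⁻¹) → (u = p ∧ v = b * p * b⁻¹) ∨ (u = b * p * b⁻¹ ∧ v = p))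
    (hle : Nat.card ↥(closure Ω) ≤ Nat.card B) :
    B ≤ closure Ω := by
  classical
  set A := closure Ω with hA
  obtain ⟨hA2, hAc⟩ := H53.closure_elementary hΩ2 hcomm
  intro b₀ hb₀
  by_contra hb₀A
  have hAmove : ∀ b ∈ B, ∀ a ∈ A, b * a * b⁻¹ ∈ A := by
    intro b hb a ha
    induction ha using Subgroup.closure_induction with
    | mem x hx => exact subset_closure (hΩmove b hb x hx)
    | one => simp
    | mul x y _ _ hx hy => simpa [mul_assoc] using mul_mem hx hy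
    | inv x _ hx => simpa [mul_assoc] using inv_mem hx
  have h16 : {x : G | x ∈ Ω ∧ ¬ Commute b₀ x}.ncard = 16 :=
    (hdich b₀ hb₀).resolve_left fun h => hb₀A h.2
  -- the permutations induced on the members
  letI : MulAction ↥B ↥Ω :=
    { smul := fun b x => ⟨b * x * (b : G)⁻¹, hΩmove b b.2 x x.2⟩
      one_smul := fun x => Subtype.ext (show (1 : G) * x * (1 : G)⁻¹ = x by group)
      mul_smul := fun b c x => Subtype.ext (show (b : G) * c * x * ((b : G) * c)⁻¹ =
        b * (c * x * (c : G)⁻¹) * (b : G)⁻¹ by group) }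
  have hsmul : ∀ (b : ↥B) (x : ↥Ω), ((b • x : ↥Ω) : G) = b * x * (b : G)⁻¹ := fun _ _ => rfl
  let P : Subgroup (Equiv.Perm ↥Ω) := (MulAction.toPermHom ↥B ↥Ω).range
  let K : Subgroup ↥B := (MulAction.toPermHom ↥B ↥Ω).ker
  have hcP : Nat.card P * Nat.card K = Nat.card B := by
    rw [Nat.card_congr (QuotientGroup.quotientKerEquivRange (MulAction.toPermHom ↥B ↥Ω)).toEquiv.symm,
      ← Subgroup.card_eq_card_quotient_mul_card_subgroup]
  have hK : ∀ b : ↥B, b ∈ K ↔ ∀ x ∈ Ω, Commute (b : G) x := by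
    intro b
    rw [MonoidHom.mem_ker]
    constructor
    · intro h x hx
      have h' := congrArg Subtype.val (Equiv.ext_iff.1 h ⟨x, hx⟩)
      rw [MulAction.toPermHom_apply, MulAction.toPerm_apply, hsmul] at h'
      exact mul_inv_eq_iff_eq_mul.1 h'
    · intro h
      ext x
      rw [MulAction.toPermHom_apply, MulAction.toPerm_apply, hsmul, (h x x.2).eq,
        mul_inv_cancel_right]
      rfl
  -- at most sixteen permutations
  have hP16 : Nat.card P ≤ 16 := by
    have hfix : ∀ p : ↥P, p ≠ 1 → Nat.card (MulAction.fixedBy ↥Ω p) = 6 := by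
      rintro ⟨_, b, rfl⟩ hp
      have hbK : ¬ ∀ x ∈ Ω, Commute (b : G) x := fun h =>
        hp (Subtype.ext ((hK b).2 h))
      have hm := (hdich b b.2).resolve_left fun h => hbK h.1
      have he : MulAction.fixedBy ↥Ω (⟨MulAction.toPermHom ↥B ↥Ω b, b, rfl⟩ : ↥P) ≃
          ↥(Ω \ {x : G | x ∈ Ω ∧ ¬ Commute (b : G) x}) :=
        { toFun := fun x => ⟨x.1.1, x.1.2, fun h => h.2
            (mul_inv_eq_iff_eq_mul.1 (congrArg Subtype.val x.2))⟩
          invFun := fun x => ⟨⟨x.1, x.2.1⟩, Subtype.ext (show (b : G) * x.1 * (b : G)⁻¹ = x.1 by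
            rw [(not_not.1 fun h => x.2.2 ⟨x.2.1, h⟩ : Commute (b : G) x.1).eq,
              mul_inv_cancel_right])⟩
          left_inv := fun x => rfl
          right_inv := fun x => rfl }
      rw [Nat.card_congr he, Nat.card_coe_set_eq,
        Set.ncard_diff (fun x hx => hx.1) (Set.toFinite _), hm, hcard]
    haveI := Fintype.ofFinite ↥P
    haveI := Fintype.ofFinite (Quotient (MulAction.orbitRel ↥P ↥Ω))
    haveI : ∀ p : ↥P, Fintype (MulAction.fixedBy ↥Ω p) := fun p => Fintype.ofFinite _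
    have hburn := MulAction.sum_card_fixedBy_eq_card_orbits_mul_card_group ↥P ↥Ω
    rw [← Finset.add_sum_erase _ _ (Finset.mem_univ (1 : ↥P))] at hburn
    have h1 : Fintype.card (MulAction.fixedBy ↥Ω (1 : ↥P)) = 22 := by
      rw [← Nat.card_eq_fintype_card, ← hcard, ← Nat.card_coe_set_eq]
      exact Nat.card_congr (Equiv.subtypeUnivEquiv fun x => one_smul _ x)
    rw [h1, Finset.sum_congr rfl fun p hp => by
        rw [← Nat.card_eq_fintype_card, hfix p (Finset.ne_of_mem_erase hp)],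
      Finset.sum_const, Finset.card_erase_of_mem (Finset.mem_univ _), Finset.card_univ,
      smul_eq_mul] at hburn
    have hpos : 0 < Fintype.card ↥P := Fintype.card_pos
    have hdvd : Fintype.card ↥P ∣ 16 := by
      have h2 : Fintype.card ↥P ∣ 22 + (Fintype.card ↥P - 1) * 6 := ⟨_, hburn.trans (mul_comm _ _)⟩
      rw [show 22 + (Fintype.card ↥P - 1) * 6 = 16 + Fintype.card ↥P * 6 by omega] at h2
      exact (Nat.dvd_add_left (dvd_mul_right _ _)).1 h2
    rw [Nat.card_eq_fintype_card]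
    exact Nat.le_of_dvd (by norm_num) hdvd
  -- the commutators with `b₀`
  let φ : ↥A →* ↥A :=
    { toFun := fun a => ⟨a * (b₀ * a * b₀⁻¹), mul_mem a.2 (hAmove b₀ hb₀ a a.2)⟩
      map_one' := Subtype.ext (by simp)
      map_mul' := fun a c => Subtype.ext (by
        simp only [Subgroup.coe_mul]
        rw [show b₀ * ((a : G) * c) * b₀⁻¹ = (b₀ * a * b₀⁻¹) * (b₀ * c * b₀⁻¹) by group,
          (hAc c c.2 _ (hAmove b₀ hb₀ a a.2)).mul_mul_mul_comm]) }
  have hφ : ∀ a : ↥A, a ∈ φ.ker ↔ Commute b₀ (a : G) := by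
    intro a
    rw [MonoidHom.mem_ker, show Commute b₀ (a : G) ↔ b₀ * (a : G) * b₀⁻¹ = a from
      ⟨fun h => mul_inv_eq_iff_eq_mul.2 h.eq, fun h => mul_inv_eq_iff_eq_mul.1 h⟩]
    constructor
    · intro h
      have h' : (a : G) * (b₀ * a * b₀⁻¹) = 1 := congrArg Subtype.val h
      exact (eq_inv_of_mul_eq_one_right h').trans (inv_eq_of_mul_eq_one_right (hA2 a a.2))
    · intro h
      refine Subtype.ext ?_
      show (a : G) * (b₀ * a * b₀⁻¹) = 1
      rw [h, hA2 a a.2]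
  have hrange : 16 ≤ Nat.card φ.range := by
    let Mv := {x : G | x ∈ Ω ∧ ¬ Commute b₀ x}
    have hfin : Mv.Finite := Set.toFinite _
    let f : G → G := fun x => x * (b₀ * x * b₀⁻¹)
    have himg : 8 ≤ (f '' Mv).ncard := by
      have hfib : ∀ y ∈ hfin.toFinset.image f, (hfin.toFinset.filter fun x => f x = y).card ≤ 2 := by
        intro y hy
        obtain ⟨p, hp, rfl⟩ := Finset.mem_image.1 hy
        rw [Set.Finite.mem_toFinset] at hp
        refine (Finset.card_le_card (t := {p, b₀ * p * b₀⁻¹}) fun x hx => ?_).trans Finset.card_le_two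
        obtain ⟨hx1, hx2⟩ := Finset.mem_filter.1 hx
        rw [Set.Finite.mem_toFinset] at hx1
        have hxm := hΩmove b₀ hb₀ x hx1.1
        have hpm := hΩmove b₀ hb₀ p hp.1
        rcases hpair b₀ hb₀ p hp.1 x hx1.1 _ hxm hp.2 (fun h => hx1.2 (h b₀).symm)
          (fun h => hx1.2 (commute_of_conj_central (hB2 b₀ hb₀) h)) hx2 with h | h
        · exact Finset.mem_insert.2 (Or.inl h.1)
        · exact Finset.mem_insert.2 (Or.inr (Finset.mem_singleton.2 h.1))
      have h := Finset.card_le_mul_card_image hfin.toFinset 2 hfib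
      rw [← Set.ncard_eq_toFinset_card _ hfin, ← Set.ncard_coe_finset (Finset.image f _),
        Finset.coe_image, Set.Finite.coe_toFinset] at h
      have : Mv.ncard = 16 := h16
      omega
    have hins : (insert 1 (f '' Mv)).ncard ≤ Nat.card φ.range := by
      rw [← Nat.card_coe_set_eq]
      refine Nat.card_le_card_of_injective
        (fun y : ↥(insert 1 (f '' Mv)) => (⟨⟨y.1, ?_⟩, ?_⟩ : ↥φ.range)) ?_
      · rcases y.2 with h | ⟨x, hx, h⟩
        · exact (congrArg (· ∈ A) h).mpr (one_mem A)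
        · exact h ▸ mul_mem (subset_closure hx.1) (subset_closure (hΩmove b₀ hb₀ x hx.1))
      · rcases y.2 with h | ⟨x, hx, h⟩
        · exact ⟨1, Subtype.ext (by rw [map_one]; exact h.symm)⟩
        · exact ⟨⟨x, subset_closure hx.1⟩, Subtype.ext h⟩
      · intro y y' h
        exact Subtype.ext (congrArg (fun z : ↥φ.range => ((z : ↥A) : G)) h)
    rw [Set.ncard_insert_of_notMem (fun h => by
      obtain ⟨x, hx, he⟩ := h
      refine hx.2 (mul_inv_eq_iff_eq_mul.1 ?_)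
      rw [eq_inv_of_mul_eq_one_right he]
      exact inv_eq_of_mul_eq_one_right (hA2 x (subset_closure hx.1))) (Set.toFinite _)] at hins
    haveI : Fact (Nat.Prime 2) := ⟨Nat.prime_two⟩
    obtain ⟨k, hk⟩ := IsPGroup.iff_card.1 (((H53.isPGroup_of_sq hA2).to_subgroup φ.range))
    rw [hk] at hins ⊢
    have : 4 ≤ k := by
      by_contra hk4
      have : 2 ^ k ≤ 2 ^ 3 := Nat.pow_le_pow_right (by norm_num) (by omega)
      omega
    exact le_trans (by norm_num) (Nat.pow_le_pow_right (by norm_num : 0 < 2) this)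
  have hAcard : Nat.card φ.range * Nat.card φ.ker = Nat.card A := by
    rw [Nat.card_congr (QuotientGroup.quotientKerEquivRange φ).toEquiv.symm,
      ← Subgroup.card_eq_card_quotient_mul_card_subgroup]
  -- the kernel of the action consists of elements of `A` centralised by `B`
  have hKA : ∀ b : ↥B, b ∈ K → (b : G) ∈ A := fun b hb =>
    ((hdich b b.2).resolve_right fun h => by
      rw [show {x : G | x ∈ Ω ∧ ¬ Commute (b : G) x} = ∅ from
          Set.eq_empty_iff_forall_notMem.2 fun x hx => hx.2 ((hK b).1 hb x hx.1),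
        Set.ncard_empty] at h
      exact absurd h (by norm_num)).2
  have hKker : Nat.card K ≤ Nat.card φ.ker :=
    Nat.card_le_card_of_injective
      (fun k : ↥K => (⟨⟨k.1.1, hKA k.1 k.2⟩, (hφ _).2 (hBc _ hb₀ _ k.1.2)⟩ : ↥φ.ker))
      fun k k' h => Subtype.ext (Subtype.ext (congrArg (fun z : ↥φ.ker => ((z : ↥A) : G)) h))
  have hkpos : 0 < Nat.card φ.ker := Nat.card_pos
  have hKpos : 0 < Nat.card K := Nat.card_pos
  by_cases hP4 : Nat.card P ≤ 3
  · have : Nat.card B ≤ 3 * Nat.card φ.ker := hcP ▸ Nat.mul_le_mul hP4 hKker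
    nlinarith
  -- a second permutation
  obtain ⟨c, hcB, hcK, hcbK⟩ : ∃ c : G, ∃ hc : c ∈ B, (⟨c, hc⟩ : ↥B) ∉ K ∧
      (⟨b₀, hb₀⟩ * ⟨c, hc⟩ : ↥B) ∉ K := by
    by_contra hne
    push Not at hne
    refine hP4 ?_
    have hsub : (P : Set (Equiv.Perm ↥Ω)) ⊆
        {1, MulAction.toPermHom ↥B ↥Ω ⟨b₀, hb₀⟩} := by
      rintro _ ⟨c, rfl⟩
      by_cases hc : c ∈ K
      · exact Or.inl hc
      · refine Or.inr ?_
        have h := hne c c.2 hc
        rw [MonoidHom.mem_ker, map_mul, mul_eq_one_iff_eq_inv, ← map_inv] at h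
        rw [Set.mem_singleton_iff, h]
        congr 1
        exact (inv_eq_of_mul_eq_one_right (Subtype.ext (hB2 c c.2) : c * c = 1)).symm
    calc Nat.card P = (P : Set (Equiv.Perm ↥Ω)).ncard := (Nat.card_coe_set_eq _)
      _ ≤ ({1, MulAction.toPermHom ↥B ↥Ω ⟨b₀, hb₀⟩} : Set (Equiv.Perm ↥Ω)).ncard :=
        Set.ncard_le_ncard hsub (Set.toFinite _)
      _ ≤ _ := (Set.ncard_insert_le _ _).trans (by simp)
  rw [hK] at hcK hcbK
  -- some pair moved by `b₀` is moved by it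
  obtain ⟨p, hp, hbp, hcp, hcbp⟩ : ∃ p ∈ Ω, ¬ Commute b₀ p ∧ c * p * c⁻¹ ≠ p ∧
      c * p * c⁻¹ ≠ b₀ * p * b₀⁻¹ := by
    by_contra hne
    push Not at hne
    have hfixle : ∀ e : ↥B, (¬ ∀ x ∈ Ω, Commute (e : G) x) →
        {x : G | x ∈ Ω ∧ Commute (e : G) x}.ncard ≤ 6 := by
      intro e he
      have hm := (hdich e e.2).resolve_left fun h => he h.1
      have hs : {x : G | x ∈ Ω ∧ Commute (e : G) x} = Ω \ {x : G | x ∈ Ω ∧ ¬ Commute (e : G) x} := by
        ext x
        exact ⟨fun h => ⟨h.1, fun h' => h'.2 h.2⟩, fun h => ⟨h.1, not_not.1 fun h' => h.2 ⟨h.1, h'⟩⟩⟩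
      rw [hs, Set.ncard_diff (fun x hx => hx.1) (Set.toFinite _), hm, hcard]
    have hsub : {x : G | x ∈ Ω ∧ ¬ Commute b₀ x} ⊆ {x : G | x ∈ Ω ∧ Commute c x} ∪
        {x : G | x ∈ Ω ∧ Commute (b₀ * c) x} := by
      rintro x ⟨hx, hbx⟩
      by_cases hcx : c * x * c⁻¹ = x
      · exact Or.inl ⟨hx, mul_inv_eq_iff_eq_mul.1 hcx⟩
      · refine Or.inr ⟨hx, mul_inv_eq_iff_eq_mul.1 ?_⟩
        rw [show b₀ * c * x * (b₀ * c)⁻¹ = b₀ * (c * x * c⁻¹) * b₀⁻¹ by group, hne x hx hbx hcx,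
          inv_eq_of_mul_eq_one_right (hB2 b₀ hb₀)]
        simp only [mul_assoc, ← mul_assoc b₀ b₀, hB2 b₀ hb₀, one_mul, mul_one]
    have h1 := hfixle ⟨c, hcB⟩ hcK
    have h2 := hfixle (⟨b₀, hb₀⟩ * ⟨c, hcB⟩) hcbK
    have h3 := (Set.ncard_le_ncard hsub (Set.toFinite _)).trans (Set.ncard_union_le _ _)
    simp only [Subgroup.coe_mul] at h1 h2
    omega
  let Kc : Subgroup ↥φ.ker := (centralizer ({c} : Set G)).comap (A.subtype.comp φ.ker.subtype)
  have hKc : ∀ a : ↥φ.ker, a ∈ Kc ↔ Commute ((a : ↥A) : G) c := fun a =>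
    mem_centralizer_singleton_iff
  have hKc_ne : Kc ≠ ⊤ := by
    intro htop
    have hpm := hΩmove b₀ hb₀ p hp
    have hq : (⟨p * (b₀ * p * b₀⁻¹), mul_mem (subset_closure hp) (subset_closure hpm)⟩ : ↥A) ∈
        φ.ker := by
      rw [hφ]
      refine mul_inv_eq_iff_eq_mul.1 ?_
      rw [show b₀ * (p * (b₀ * p * b₀⁻¹)) * b₀⁻¹ =
        (b₀ * p * b₀⁻¹) * (b₀ * b₀ * p * (b₀ * b₀)⁻¹) by group, hB2 b₀ hb₀, one_mul, inv_one,
        mul_one]
      exact (hcomm p hp _ hpm).eq.symm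
    have h := (hKc ⟨_, hq⟩).1 (htop ▸ mem_top _)
    have hcpm := hΩmove c hcB p hp
    have hcm2 := hΩmove c hcB _ hpm
    have heq : c * p * c⁻¹ * (c * (b₀ * p * b₀⁻¹) * c⁻¹) = p * (b₀ * p * b₀⁻¹) := by
      rw [show c * p * c⁻¹ * (c * (b₀ * p * b₀⁻¹) * c⁻¹) = c * (p * (b₀ * p * b₀⁻¹)) * c⁻¹ by
        group]
      rw [← h.eq, mul_inv_cancel_right]
    rcases hpair b₀ hb₀ p hp _ hcpm _ hcm2 hbp
      (fun h => hbp (commute_of_conj (Or.inr trivial) (hBc b₀ hb₀ c hcB) (fun k => h k)))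
      (fun h => hbp (commute_of_conj₂ (hB2 b₀ hb₀) (hBc b₀ hb₀ c hcB) (fun k => h k)))
      heq with h' | h'
    exacts [hcp h'.1, hcbp h'.1]
  have h2 : 2 * Nat.card Kc ≤ Nat.card φ.ker := by
    have hi : 2 ≤ Kc.index := by
      have h1 := mt Subgroup.index_eq_one.mp hKc_ne
      have := Subgroup.index_ne_zero_of_finite (H := Kc)
      omega
    rw [← Subgroup.card_mul_index Kc, mul_comm 2]
    exact Nat.mul_le_mul_left _ hi
  have hKle : Nat.card K ≤ Nat.card Kc :=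
    Nat.card_le_card_of_injective
      (fun k : ↥K => (⟨⟨⟨k.1.1, hKA k.1 k.2⟩, (hφ _).2 (hBc _ hb₀ _ k.1.2)⟩,
        (hKc _).2 (hBc _ k.1.2 _ hcB)⟩ : ↥Kc))
      fun k k' h => Subtype.ext (Subtype.ext
        (congrArg (fun z : ↥Kc => (((z : ↥φ.ker) : ↥A) : G)) h))
  have hB : Nat.card B ≤ 16 * Nat.card Kc := hcP ▸ Nat.mul_le_mul hP16 hKle
  have hKcpos : 0 < Nat.card Kc := Nat.card_pos
  nlinarith

end Cfsg.Agent.H98.U62
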